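import Mathlib
import Groth.Agent.H17.KerLocFree
import Groth.Agent.H8.RankLocFree

/-!
# (RANK) stalkwise criterion for local freeness of rank `n` (helper57, S4820)
-/

set_option autoImplicit false
set_option linter.style.haveILetI false
universe u

open AlgebraicGeometry CategoryTheory Limits TopologicalSpace

namespace Groth.Agent.H57.FibLFn.Rank

theorem stalk_of_restrict_iso {Z : Scheme.{u}} (G : Z.Modules) [G.IsQuasicoherent] {U : Z.Opens} {n : ℕ}
    (e : G.restrict U.ι ≅ FlatMod.freeMod (↑U) n) (a : Z) (ha : a ∈ U) :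
    Module.Free (Z.presheaf.stalk a) (G.presheaf.stalk a) ∧
      Module.finrank (Z.presheaf.stalk a) (G.presheaf.stalk a) = n := by
  obtain ⟨b⟩ := Groth.Agent.H8.exists_basis_stalk_of_restrict_iso G e a ha
  refine ⟨Module.Free.of_basis b, ?_⟩
  rw [Module.finrank_eq_card_basis b, Fintype.card_fin]

/-- (RANK) stalkwise criterion for local freeness of rank `n`. -/
theorem isFinLocFreeOfRank_iff_stalks {Z : Scheme.{u}} [IsLocallyNoetherian Z] (n : ℕ)
    (G : Z.Modules) (hG : Coh.IsCoh G) :
    FlatMod.IsFinLocFreeOfRank n G ↔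
      ∀ a : Z, Module.Free (Z.presheaf.stalk a) (G.presheaf.stalk a) ∧
        Module.finrank (Z.presheaf.stalk a) (G.presheaf.stalk a) = n := by
  haveI : G.IsQuasicoherent := hG.1
  constructor
  · intro h a
    obtain ⟨U, ha, ⟨e⟩⟩ := h a
    exact stalk_of_restrict_iso G e a ha
  · intro h
    have hlf : FlatMod.IsFinLocFree G :=
      Groth.Agent.H17.KerLocFree.isFinLocFree_of_free_stalks G hG (fun a => (h a).1)
    intro a
    obtain ⟨U, n', ha, ⟨e⟩⟩ := hlf a
    have h1 := (stalk_of_restrict_iso G e a ha).2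
    have h2 : n' = n := h1.symm.trans (h a).2
    subst h2
    exact ⟨U, ha, ⟨e⟩⟩

end Groth.Agent.H57.FibLFn.Rank
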