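import Mathlib
import Groth.Prelude.Def_FlatMod2

/-!
# (LFn-ISO): `FlatMod.IsFinLocFreeOfRank n` is invariant under isomorphism (after H54.LF_ISO).
-/

set_option autoImplicit false
universe u
open AlgebraicGeometry CategoryTheory Limits TopologicalSpace

namespace Groth.Agent.H57.FibLFn.Iso

theorem isFinLocFreeOfRank_of_iso {Z : Scheme.{u}} (n : ℕ) {M N : Z.Modules} (e : M ≅ N)
    (h : FlatMod.IsFinLocFreeOfRank n M) : FlatMod.IsFinLocFreeOfRank n N := by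
  intro x
  obtain ⟨U, hx, ⟨i⟩⟩ := h x
  exact ⟨U, hx, ⟨((Scheme.Modules.restrictFunctor U.ι).mapIso e).symm ≪≫ i⟩⟩

theorem isFinLocFreeOfRank_iff_of_iso {Z : Scheme.{u}} (n : ℕ) {M N : Z.Modules} (e : M ≅ N) :
    FlatMod.IsFinLocFreeOfRank n M ↔ FlatMod.IsFinLocFreeOfRank n N :=
  ⟨isFinLocFreeOfRank_of_iso n e, isFinLocFreeOfRank_of_iso n e.symm⟩

end Groth.Agent.H57.FibLFn.Iso
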