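import Mathlib
import Groth.Agent.H57.FibLFn.Defs
import Groth.Agent.H57.FibLFn.Rank
import Groth.Agent.H12.LF_DICH

/-!
# (LFn-DICH) generic dichotomy for the fibrewise rank-`n` locally free locus
(helper57; adaptation of helper12's `H12/LF_DICH.lean`)
-/

set_option autoImplicit false
set_option linter.style.haveILetI false
universe u
open AlgebraicGeometry CategoryTheory Limits TopologicalSpace TensorProduct IsLocalRing
open Groth.Agent.H57.FibLFn Groth.Agent.H12.LF_DICH

namespace Groth.Agent.H57.FibLFn.Dich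

/-- the rank of the stalk of the fibre module equals the rank of the stalk, when the latter is
free. -/
theorem finrank_stalk_fiber_eq {X S : Scheme.{u}} (f : X ⟶ S) (F : X.Modules)
    [F.IsQuasicoherent] (s : S) (a : ↥(f.fiber s))
    [Module.Free (X.presheaf.stalk (f.fiberι s a)) (F.presheaf.stalk (f.fiberι s a))] :
    Module.finrank ((f.fiber s).presheaf.stalk a)
        (((Scheme.Modules.pullback (f.fiberι s)).obj F).presheaf.stalk a) =
      Module.finrank (X.presheaf.stalk (f.fiberι s a)) (F.presheaf.stalk (f.fiberι s a)) := by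
  letI alg : Algebra (X.presheaf.stalk (f.fiberι s a)) ((f.fiber s).presheaf.stalk a) :=
    ((f.fiberι s).stalkMap a).hom.toAlgebra
  obtain ⟨e⟩ := Groth.Agent.H8.nonempty_stalk_pullback_equiv (f.fiberι s) F a
  rw [LinearEquiv.finrank_eq e]
  exact Module.finrank_baseChange

/-- the locus where the stalk is free of rank `n` is open. -/
theorem isOpen_rank_locus {X : Scheme.{u}} [IsLocallyNoetherian X] (n : ℕ) (F : X.Modules)
    (hF : Coh.IsCoh F) :
    IsOpen {x : X | Module.Free (X.presheaf.stalk x) (F.presheaf.stalk x) ∧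
      Module.finrank (X.presheaf.stalk x) (F.presheaf.stalk x) = n} := by
  haveI : F.IsQuasicoherent := hF.1
  rw [isOpen_iff_forall_mem_open]
  rintro x ⟨hxfree, hxrank⟩
  obtain ⟨_, ⟨U, hU, rfl⟩, hxU, -⟩ :=
    X.isBasis_affineOpens.exists_subset_of_mem_open (Set.mem_univ x) isOpen_univ
  replace hU : IsAffineOpen U := hU
  haveI : IsNoetherianRing Γ(X, U) := IsLocallyNoetherian.component_noetherian ⟨U, hU⟩
  haveI := Groth.Agent.H8.finite_sections_of_isCoh F hF hU
  haveI : Module.FinitePresentation Γ(X, U) Γ(F, U) :=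
    Module.finitePresentation_of_finite Γ(X, U) Γ(F, U)
  haveI := hxfree
  obtain ⟨b, hxb, n', ⟨e⟩⟩ :=
    Groth.Agent.H8.exists_basicOpen_restrict_iso_freeMod_of_free_stalk F hU x hxU
  have h1 := (Groth.Agent.H57.FibLFn.Rank.stalk_of_restrict_iso F e x hxb).2
  have h2 : n' = n := h1.symm.trans hxrank
  subst h2
  exact ⟨X.basicOpen b,
    fun y hy => Groth.Agent.H57.FibLFn.Rank.stalk_of_restrict_iso F e y hy,
    (X.basicOpen b).isOpen, hxb⟩

/-- (LFn-DICH) -/
theorem lfn_dichotomy (n : ℕ) {X S : Scheme.{u}} [IsIntegral S] [IsNoetherian S]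
    (f : X ⟶ S) [LocallyOfFiniteType f] [QuasiCompact f]
    (F : X.Modules) (hF : Coh.IsCoh F) :
    ∃ U : S.Opens, genericPoint S ∈ U ∧
      ((∀ s ∈ U, s ∈ LFn n f F) ∨ (∀ s ∈ U, s ∉ LFn n f F)) := by
  haveI hLN : IsLocallyNoetherian X := LocallyOfFiniteType.isLocallyNoetherian f
  haveI hCS : CompactSpace X := QuasiCompact.compactSpace_of_compactSpace f
  haveI : IsNoetherian X := { toIsLocallyNoetherian := hLN, toCompactSpace := hCS }
  haveI : F.IsQuasicoherent := hF.1
  obtain ⟨U₁, hU₁ne, hU₁⟩ := Groth.Agent.H57.exists_open_isFlatOverAt (u := f) (F := F)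
    (fun W hW => Groth.Agent.H8.finite_sections_of_isCoh F hF hW)
  have hη : closure ({genericPoint S} : Set S) = Set.univ := (genericPoint_spec S).def
  have hηU₁ : genericPoint S ∈ U₁ := by
    obtain ⟨y, hy⟩ := hU₁ne
    exact ((genericPoint_spec S).mem_open_set_iff U₁.isOpen).2 ⟨y, trivial, hy⟩
  have hGopen := isOpen_rank_locus n F hF
  have hZc : Topology.IsConstructible
      {x : X | Module.Free (X.presheaf.stalk x) (F.presheaf.stalk x) ∧
        Module.finrank (X.presheaf.stalk x) (F.presheaf.stalk x) = n}ᶜ := by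
    have h1 : Topology.IsConstructible
        {x : X | Module.Free (X.presheaf.stalk x) (F.presheaf.stalk x) ∧
          Module.finrank (X.presheaf.stalk x) (F.presheaf.stalk x) = n} :=
      IsRetrocompact.isConstructible hGopen
        (by intro U _ _; exact NoetherianSpace.isCompact _)
    exact h1.compl
  haveI : LocallyOfFinitePresentation f :=
    LocallyOfFinitePresentation.iff_locallyOfFiniteType.mpr inferInstance
  have hCc : Topology.IsConstructible
      (f '' {x : X | Module.Free (X.presheaf.stalk x) (F.presheaf.stalk x) ∧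
        Module.finrank (X.presheaf.stalk x) (F.presheaf.stalk x) = n}ᶜ) :=
    f.isConstructible_image hZc
  have hkey : ∀ s ∈ U₁, (s ∈ LFn n f F ↔
      s ∉ f '' {x : X | Module.Free (X.presheaf.stalk x) (F.presheaf.stalk x) ∧
        Module.finrank (X.presheaf.stalk x) (F.presheaf.stalk x) = n}ᶜ) := by
    intro s hs
    haveI := Groth.Agent.H57.RelAssBC.isLocallyNoetherian_fiber f s
    have hcoh : Coh.IsCoh ((Scheme.Modules.pullback (f.fiberι s)).obj F) := by
      haveI : SheafOfModules.IsFiniteType (R := X.ringCatSheaf) F := hF.2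
      exact ⟨Groth.Agent.H8.isQuasicoherent_pullback _ F, Groth.Agent.H8.isFiniteType_pullback _ F⟩
    have hfa : ∀ a : ↥(f.fiber s), f (f.fiberι s a) = s := by
      intro a
      have h1 : f.fiberι s a ∈ Set.range (f.fiberι s) := Set.mem_range_self a
      rw [Scheme.Hom.range_fiberι] at h1
      exact h1
    have hflat : ∀ a : ↥(f.fiber s), FlatMod.IsFlatOverAt f F (f.fiberι s a) := by
      intro a
      refine hU₁ _ ?_
      have h2 := hfa a
      rw [← h2] at hs
      exact hs
    show FlatMod.IsFinLocFreeOfRank n _ ↔ _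
    rw [Groth.Agent.H57.FibLFn.Rank.isFinLocFreeOfRank_iff_stalks n _ hcoh]
    constructor
    · rintro hlf ⟨x, hx, hfx⟩
      obtain ⟨a, rfl⟩ : ∃ a : ↥(f.fiber s), f.fiberι s a = x :=
        ⟨(f.fiberHomeo s).symm ⟨x, hfx⟩, f.fiberι_fiberHomeo_symm s ⟨x, hfx⟩⟩
      apply hx
      have hfree := (free_stalk_fiber_iff_at f F hF s a (hflat a)).mp (hlf a).1
      haveI := hfree
      exact ⟨hfree, (finrank_stalk_fiber_eq f F s a).symm.trans (hlf a).2⟩
    · intro h a
      have hmem : f.fiberι s a ∈ {x : X | Module.Free (X.presheaf.stalk x) (F.presheaf.stalk x) ∧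
          Module.finrank (X.presheaf.stalk x) (F.presheaf.stalk x) = n} := by
        by_contra hnf
        exact h ⟨f.fiberι s a, hnf, hfa a⟩
      obtain ⟨hfree, hrank⟩ := hmem
      haveI := hfree
      exact ⟨(free_stalk_fiber_iff_at f F hF s a (hflat a)).mpr hfree,
        (finrank_stalk_fiber_eq f F s a).trans hrank⟩
  rcases dichotomy_of_isConstructible (genericPoint S) hη hCc with
    ⟨V, hV, hηV, hVC⟩ | ⟨V, hV, hηV, hVC⟩
  · refine ⟨U₁ ⊓ ⟨V, hV⟩, ⟨hηU₁, hηV⟩, Or.inr (fun s hs => ?_)⟩
    exact fun hlf => ((hkey s hs.1).mp hlf) (hVC hs.2)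
  · refine ⟨U₁ ⊓ ⟨V, hV⟩, ⟨hηU₁, hηV⟩, Or.inl (fun s hs => ?_)⟩
    exact (hkey s hs.1).mpr (hVC hs.2)

end Groth.Agent.H57.FibLFn.Dich
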