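import Mathlib
import Groth.Agent.H57.FibLFn.Defs
import Groth.Agent.H57.FibLFn.Rank
import Groth.Agent.H57.FibLFn.Iso
import Groth.Agent.H57.FibLFn.BC
import Groth.Agent.H57.FibLFn.Dich
import Groth.Agent.H44.LFn_CHART
import Groth.Agent.H57.FibLF.Main

/-!
# Glue file for S4820: the squad pieces under one namespace

(LFn-CHART) helper44, (RANK)+(LFn-ISO)+(LFn-BC)+(LFn-DICH) helper57 (adapting helper26's and
helper12's S4819 pieces).
-/

set_option autoImplicit false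
set_option linter.style.haveILetI false
universe u

open AlgebraicGeometry CategoryTheory Limits TopologicalSpace

namespace Groth.Agent.H57.FibLFn

/-- (LFn-ISO) -/
theorem isFinLocFreeOfRank_iff_of_iso {Z : Scheme.{u}} (n : ℕ) {M N : Z.Modules} (e : M ≅ N) :
    FlatMod.IsFinLocFreeOfRank n M ↔ FlatMod.IsFinLocFreeOfRank n N :=
  Groth.Agent.H57.FibLFn.Iso.isFinLocFreeOfRank_iff_of_iso n e

/-- (LFn-BC) -/
theorem lfn_preimage (n : ℕ) {X X' S S' : Scheme.{u}} (f : X ⟶ S) [LocallyOfFiniteType f]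
    (F : X.Modules) (hF : Coh.IsCoh F) (g : S' ⟶ S) (f' : X' ⟶ S') (g' : X' ⟶ X)
    (sq : IsPullback g' f' f g) :
    LFn n f' ((Scheme.Modules.pullback g').obj F) = g ⁻¹' LFn n f F :=
  Groth.Agent.H57.FibLFn.BC.lfn_preimage n f F hF g f' g' sq

/-- (LFn-CHART) -/
theorem lfn_eq_iInter_of_iSup_eq_top (n : ℕ) {X S : Scheme.{u}} (f : X ⟶ S)
    [LocallyOfFiniteType f] (F : X.Modules) (hF : Coh.IsCoh F) {ι : Type*} (W : ι → X.Opens)
    (hW : ⨆ i, W i = ⊤) :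
    LFn n f F = ⋂ i, LFn n ((W i).ι ≫ f) ((Scheme.Modules.pullback (W i).ι).obj F) :=
  Groth.Agent.H44.LFn_CHART.lfn_eq_iInter_of_iSup_eq_top n f F hF W hW

/-- (LFn-DICH) -/
theorem lfn_dichotomy (n : ℕ) {X S : Scheme.{u}} [IsIntegral S] [IsNoetherian S]
    (f : X ⟶ S) [LocallyOfFiniteType f] [QuasiCompact f]
    (F : X.Modules) (hF : Coh.IsCoh F) :
    ∃ U : S.Opens, genericPoint S ∈ U ∧
      ((∀ s ∈ U, s ∈ LFn n f F) ∨ (∀ s ∈ U, s ∉ LFn n f F)) :=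
  Groth.Agent.H57.FibLFn.Dich.lfn_dichotomy n f F hF

end Groth.Agent.H57.FibLFn
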