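import Mathlib
import Groth.Agent.H57.FibLFn.Stmts
import Groth.Agent.H57.FibLF.Main

/-!
# Assembly for S4820 (helper57)
-/

set_option autoImplicit false
set_option linter.style.haveILetI false
universe u

open AlgebraicGeometry CategoryTheory Limits TopologicalSpace
open Groth.Agent.H57.NoEmb Groth.Agent.H57.FibLF

namespace Groth.Agent.H57.FibLFn

/-- Noetherian base. -/
theorem noeth_case (n : ℕ) {X₀ S₀ : Scheme.{u}} [IsNoetherian S₀] (f₀ : X₀ ⟶ S₀)
    [LocallyOfFiniteType f₀] [QuasiCompact f₀] (F₀ : X₀.Modules) (hF₀ : Coh.IsCoh F₀) :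
    Topology.IsLocallyConstructible (LFn n f₀ F₀) := by
  have hpre : ∀ (Z : Scheme.{u}) (i : Z ⟶ S₀),
      LFn n (pullback.snd f₀ i) ((Scheme.Modules.pullback (pullback.fst f₀ i)).obj F₀) =
        i ⁻¹' LFn n f₀ F₀ := fun Z i =>
    lfn_preimage n f₀ F₀ hF₀ i (pullback.snd f₀ i) (pullback.fst f₀ i)
      (IsPullback.of_hasPullback f₀ i)
  rw [Groth.Agent.S3402.result]
  refine ⟨?_, ?_⟩
  · apply Groth.Agent.H24.isIndConstructible_of_forall_integral
    intro Z i _ _ _ hgen
    rw [← hpre Z i]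
    obtain ⟨U, hηU, hU⟩ := lfn_dichotomy n (pullback.snd f₀ i)
      ((Scheme.Modules.pullback (pullback.fst f₀ i)).obj F₀) (isCoh_pullback _ F₀ hF₀)
    have hη : genericPoint Z ∈
        LFn n (pullback.snd f₀ i) ((Scheme.Modules.pullback (pullback.fst f₀ i)).obj F₀) := by
      rw [hpre Z i]; exact hgen
    rcases hU with hU | hU
    · exact ⟨genericPoint Z, mem_interior.mpr ⟨U, fun s hs => hU s hs, U.isOpen, hηU⟩⟩
    · exact absurd hη (hU _ hηU)
  · rw [Groth.Agent.H17.isProConstructible_iff_compl]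
    apply Groth.Agent.H24.isIndConstructible_of_forall_integral
    intro Z i _ _ _ hgen
    have e : i ⁻¹' (LFn n f₀ F₀)ᶜ =
        (LFn n (pullback.snd f₀ i) ((Scheme.Modules.pullback (pullback.fst f₀ i)).obj F₀))ᶜ := by
      rw [hpre Z i]; rfl
    rw [e]
    obtain ⟨U, hηU, hU⟩ := lfn_dichotomy n (pullback.snd f₀ i)
      ((Scheme.Modules.pullback (pullback.fst f₀ i)).obj F₀) (isCoh_pullback _ F₀ hF₀)
    have hη : genericPoint Z ∉
        LFn n (pullback.snd f₀ i) ((Scheme.Modules.pullback (pullback.fst f₀ i)).obj F₀) := by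
      rw [hpre Z i]; exact hgen
    rcases hU with hU | hU
    · exact absurd (hU _ hηU) hη
    · exact ⟨genericPoint Z, mem_interior.mpr ⟨U, fun s hs => hU s hs, U.isOpen, hηU⟩⟩

/-- Affine source and base. -/
theorem affine_case (n : ℕ) {X S : Scheme.{u}} [IsAffine X] [IsAffine S] (f : X ⟶ S)
    [LocallyOfFinitePresentation f] (F : X.Modules) [F.IsQuasicoherent] (hF : CohB1.IsFP F) :
    Topology.IsLocallyConstructible (LFn n f F) := by
  obtain ⟨S₀, X₀, h, f₀, eX, F₀, hN, hft, hqc, sq, hcoh, ⟨e⟩⟩ :=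
    exists_noetherian_model_affine f F hF
  haveI := hN
  haveI := hft
  haveI := hqc
  have h1 : LFn n f F = LFn n f ((Scheme.Modules.pullback eX).obj F₀) := by
    ext s
    exact isFinLocFreeOfRank_iff_of_iso n ((Scheme.Modules.pullback (f.fiberι s)).mapIso e)
  rw [h1, lfn_preimage n f₀ F₀ hcoh h f eX sq]
  exact isLocallyConstructible_preimage h _ (noeth_case n f₀ F₀ hcoh)

/-- Affine base. -/
theorem qc_case (n : ℕ) {X S : Scheme.{u}} [IsAffine S] (f : X ⟶ S)
    [LocallyOfFinitePresentation f] [QuasiCompact f] (F : X.Modules) [F.IsQuasicoherent]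
    (hF : CohB1.IsFP F) : Topology.IsLocallyConstructible (LFn n f F) := by
  have hcpt : IsCompact ((f ⁻¹ᵁ (⊤ : S.Opens) : X.Opens) : Set X) :=
    f.isCompact_preimage (isAffineOpen_top S).isCompact
  obtain ⟨c, hcfin, hc⟩ := isCompact_iff_finite_and_eq_biUnion_affineOpens.mp hcpt
  haveI : Finite c := hcfin
  have hW : ⨆ i : c, ((i.1 : X.affineOpens) : X.Opens) = ⊤ := by
    have h2 : (f ⁻¹ᵁ (⊤ : S.Opens) : X.Opens) = ⊤ := rfl
    rw [← h2, hc, iSup_subtype]
  rw [lfn_eq_iInter_of_iSup_eq_top n f F (isCoh_of_isFP F hF)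
    (fun i : c => ((i.1 : X.affineOpens) : X.Opens)) hW]
  apply Topology.IsLocallyConstructible.iInter
  intro i
  haveI : IsAffine ((i.1 : X.affineOpens) : X.Opens).toScheme := i.1.2
  haveI : ((Scheme.Modules.pullback ((i.1 : X.affineOpens) : X.Opens).ι).obj F).IsQuasicoherent :=
    Groth.Agent.H8.isQuasicoherent_pullback _ F
  exact affine_case n _ _ (Groth.Agent.H42.FPKernel.isFP_pullback _ F hF)

/-- S4820 in `LF` form. -/
theorem main (n : ℕ) {X S : Scheme.{u}} (f : X ⟶ S)
    [LocallyOfFinitePresentation f] [QuasiCompact f] [QuasiSeparated f]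
    (F : X.Modules) [F.IsQuasicoherent] (hF : CohB1.IsFP F) :
    Topology.IsLocallyConstructible (LFn n f F) := by
  apply Topology.IsLocallyConstructible.of_isOpenCover (U := fun U : S.affineOpens => (U : S.Opens))
    (iSup_affineOpens_eq_top S)
  intro U
  haveI : IsAffine (U : S.Opens).toScheme := U.2
  haveI : ((Scheme.Modules.pullback (pullback.fst f (U : S.Opens).ι)).obj F).IsQuasicoherent :=
    Groth.Agent.H8.isQuasicoherent_pullback _ F
  have h1 := lfn_preimage n f F (isCoh_of_isFP F hF) (U : S.Opens).ι (pullback.snd f (U : S.Opens).ι)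
    (pullback.fst f (U : S.Opens).ι) (IsPullback.of_hasPullback f (U : S.Opens).ι)
  have h2 := qc_case n (pullback.snd f (U : S.Opens).ι)
    ((Scheme.Modules.pullback (pullback.fst f (U : S.Opens).ι)).obj F)
    (Groth.Agent.H42.FPKernel.isFP_pullback _ F hF)
  rw [h1] at h2
  exact h2

end Groth.Agent.H57.FibLFn
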